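import Groth.Agent.EtModWLib.Strata
import Groth.Agent.EtLC12.ModPullExact

/-!
# Kernels, cokernels, extensions of constructible sheaves of modules
-/

set_option autoImplicit false

universe u

open CategoryTheory CategoryTheory.Limits AlgebraicGeometry Opposite Topology

namespace Groth.Agent.EtModWLib

set_option backward.isDefEq.respectTransparency.types false

variable {Λ : Type (u + 1)} [CommRing Λ] {X : Scheme.{u}}

theorem isConstructible_of_iso {F G : EtModW.Mod Λ X} (e : F ≅ G) (h : EtModW.IsConstructible Λ F) :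
    EtModW.IsConstructible Λ G := by
  intro U hU
  obtain ⟨n, T, g, hg, hc, hd, hu, hT⟩ := h U hU
  exact ⟨n, T, g, hg, hc, hd, hu, fun i => isFTLocConst_of_iso ((EtModW.pull Λ (g i)).mapIso e) (hT i)⟩

/-- a property implied by local constancy of two sheaves passes from strata to constructibility -/
theorem isConstructible_of_two {F G K : EtModW.Mod Λ X} (hF : EtModW.IsConstructible Λ F)
    (hG : EtModW.IsConstructible Λ G)
    (h : ∀ (T : Scheme.{u}) (g : T ⟶ X), EtModW.IsFTLocConst Λ ((EtModW.pull Λ g).obj F) →
      EtModW.IsFTLocConst Λ ((EtModW.pull Λ g).obj G) → EtModW.IsFTLocConst Λ ((EtModW.pull Λ g).obj K)) :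
    EtModW.IsConstructible Λ K := by
  intro U hU
  obtain ⟨n, E, hE, hc, hu⟩ := exists_pieces (hF U hU)
  obtain ⟨m, E', hE', hc', hu'⟩ := exists_pieces (hG U hU)
  refine adaptedStrata_of_cover U.2.isLocallyClosed (fun p : Fin n × Fin m => E p.1 ∩ E' p.2) (fun p => ?_)
    (fun p => (hc p.1).inter (hc' p.2)) fun x hx => ?_
  · obtain ⟨T, g, hg, hr, hT⟩ := hE p.1
    obtain ⟨T', g', hg', hr', hT'⟩ := hE' p.2
    refine ⟨pullback g g', pullback.fst g g' ≫ g, ?_, ?_, h _ _ ?_ ?_⟩
    · have : IsImmersion (pullback.fst g g') := MorphismProperty.pullback_fst _ _ hg'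
      infer_instance
    · rw [Scheme.Hom.comp_base, TopCat.coe_comp, Set.range_comp, Scheme.Pullback.range_fst,
        Set.image_preimage_eq_range_inter, hr, hr']
    · exact isFTLocConst_of_iso ((pullCompMod _ g).app F).symm (isFTLocConst_pull _ hT)
    · rw [pullback.condition]
      exact isFTLocConst_of_iso ((pullCompMod _ g').app G).symm (isFTLocConst_pull _ hT')
  · obtain ⟨i, hi⟩ := Set.mem_iUnion.1 (hu.ge hx)
    obtain ⟨j, hj⟩ := Set.mem_iUnion.1 (hu'.ge hx)
    exact Set.mem_iUnion.2 ⟨(i, j), hi, hj⟩

instance pull_preservesFiniteLimits {Y : Scheme.{u}} (f : X ⟶ Y) : PreservesFiniteLimits (EtModW.pull Λ f) :=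
  EtLC12.ModPullExact.pull_preservesFiniteLimits Λ f

instance pull_preservesFiniteColimits {Y : Scheme.{u}} (f : X ⟶ Y) :
    PreservesFiniteColimits (EtModW.pull Λ f) :=
  have : PreservesColimitsOfSize.{0, 0} (EtModW.pull Λ f) := (pullPushAdj Λ f).leftAdjoint_preservesColimits
  PreservesColimitsOfSize.preservesFiniteColimits _

variable [IsNoetherianRing Λ]

/-- kernels of maps of constructible sheaves of modules are constructible -/
theorem isConstructible_kernel {F G : EtModW.Mod Λ X} (hF : EtModW.IsConstructible Λ F)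
    (hG : EtModW.IsConstructible Λ G) (a : F ⟶ G) : EtModW.IsConstructible Λ (kernel a) :=
  isConstructible_of_two hF hG fun T g k1 k2 => by
    let S := (ShortComplex.mk (kernel.ι a) a (kernel.condition a)).map (EtModW.pull Λ g)
    have : Mono S.f := inferInstanceAs (Mono ((EtModW.pull Λ g).map (kernel.ι a)))
    exact FTConst.isFTLocConst_of_kernel (S := S)
      ((ShortComplex.exact_of_f_is_kernel _ (kernelIsKernel a)).map _) k1 k2

/-- cokernels of maps of constructible sheaves of modules are constructible -/
theorem isConstructible_cokernel {F G : EtModW.Mod Λ X} (hF : EtModW.IsConstructible Λ F)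
    (hG : EtModW.IsConstructible Λ G) (a : F ⟶ G) : EtModW.IsConstructible Λ (cokernel a) :=
  isConstructible_of_two hF hG fun T g k1 k2 => by
    let S := (ShortComplex.mk a (cokernel.π a) (cokernel.condition a)).map (EtModW.pull Λ g)
    have : Epi S.g := inferInstanceAs (Epi ((EtModW.pull Λ g).map (cokernel.π a)))
    exact FTConst.isFTLocConst_of_cokernel (S := S)
      ((ShortComplex.exact_of_g_is_cokernel _ (cokernelIsCokernel a)).map _) k1 k2

/-- extensions of constructible sheaves of modules are constructible -/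
theorem isConstructible_of_extension {S : ShortComplex (EtModW.Mod Λ X)} (hS : S.ShortExact)
    (h1 : EtModW.IsConstructible Λ S.X₁) (h3 : EtModW.IsConstructible Λ S.X₃) :
    EtModW.IsConstructible Λ S.X₂ :=
  isConstructible_of_two h1 h3 fun T g k1 k3 =>
    FTConst.isFTLocConst_of_extension (S := S.map (EtModW.pull Λ g)) (hS.map_of_exact (EtModW.pull Λ g)) k1 k3

end Groth.Agent.EtModWLib
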