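import Groth.Agent.ARLib.Adic
import Mathlib.CategoryTheory.Linear.LinearFunctor
import Mathlib.CategoryTheory.Adjunction.Basic
import Mathlib.CategoryTheory.Limits.Preserves.Shapes.Kernels
import Mathlib.CategoryTheory.Preadditive.AdditiveFunctor

/-!
# Images of projective systems under exact linear left adjoints
-/

set_option autoImplicit false

universe w v u v' u'

open CategoryTheory CategoryTheory.Limits Opposite ARSys

namespace Groth.Agent.EtModWLib

set_option backward.isDefEq.respectTransparency.types false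

variable {C : Type u} [Category.{v} C] [Abelian C] {D : Type u'} [Category.{v'} D] [Abelian D]
  {A : Type w} [CommRing A] [Linear A C] [Linear A D] (L : C ⥤ D) [L.Additive]

theorem isARNull_map {X : PS C} (h : IsARNull X) : IsARNull (X ⋙ L) := by
  obtain ⟨r, hr⟩ := h
  exact ⟨r, fun n => (congrArg L.map (hr n)).trans (L.map_zero _ _)⟩

theorem isARNull_of_iso {X Y : PS D} (e : X ≅ Y) (h : IsARNull X) : IsARNull Y := by
  obtain ⟨r, hr⟩ := h
  refine ⟨r, fun n => ?_⟩
  show tr Y (Nat.le_add_right n r) = 0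
  refine (cancel_epi (e.hom.app (op (n + r)))).1 ?_
  rw [comp_zero]
  refine (e.hom.naturality (homOfLE (Nat.le_add_right n r)).op).symm.trans ?_
  exact (congrArg (· ≫ e.hom.app (op n)) (hr n)).trans zero_comp

theorem isARIso_map [PreservesFiniteLimits L] [PreservesFiniteColimits L] {X Y : PS C} (v : X ⟶ Y)
    (h : IsARIso v) : IsARIso (Functor.whiskerRight v L) := by
  let W := (Functor.whiskeringRight ℕᵒᵖ C D).obj L
  have hW : PreservesLimitsOfShape WalkingParallelPair W :=
    preservesLimitsOfShape_of_evaluation _ _ fun n =>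
      show PreservesLimitsOfShape WalkingParallelPair ((evaluation ℕᵒᵖ C).obj n ⋙ L) from inferInstance
  have hW' : PreservesColimitsOfShape WalkingParallelPair W :=
    preservesColimitsOfShape_of_evaluation _ _ fun n =>
      show PreservesColimitsOfShape WalkingParallelPair ((evaluation ℕᵒᵖ C).obj n ⋙ L) from inferInstance
  refine ⟨isARNull_of_iso ?_ (isARNull_map L h.1), isARNull_of_iso ?_ (isARNull_map L h.2)⟩
  · exact PreservesKernel.iso W v
  · exact PreservesCokernel.iso W v

variable [L.Linear A]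

theorem killedBy_map {I : Ideal A} {X : C} (h : KilledBy I X) : KilledBy I (L.obj X) := fun a ha => by
  rw [← L.map_id, ← L.map_smul, h a ha, L.map_zero]

theorem termKilled_map {J : Ideal A} {X : PS C} (h : TermKilled J X) : TermKilled J (X ⋙ L) :=
  fun n => killedBy_map L (h n)

variable {R : D ⥤ C} [R.Additive] [R.Linear A] (adj : L ⊣ R)

omit [L.Additive] [L.Linear A] in
theorem homKilledBy_transpose {I : Ideal A} {X : C} {Y : D} {φ : L.obj X ⟶ Y} (h : HomKilledBy I φ) :
    HomKilledBy I (adj.homEquiv X Y φ) := fun a ha => by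
  rw [adj.homEquiv_unit, ← Linear.comp_smul, ← R.map_smul, h a ha, R.map_zero, comp_zero]

include adj in
theorem isQuot_map {I : Ideal A} {X Q : C} {p : X ⟶ Q} (h : IsQuot I p) : IsQuot I (L.map p) := by
  refine ⟨killedBy_map L h.1, fun Y φ hφ => ?_⟩
  obtain ⟨ψ, hψ, hu⟩ := h.2 _ (adj.homEquiv X Y φ) (homKilledBy_transpose L adj hφ)
  refine ⟨(adj.homEquiv Q Y).symm ψ, ?_, fun χ hχ => ?_⟩
  · show L.map p ≫ _ = φ
    rw [← adj.homEquiv_naturality_left_symm, hψ, Equiv.symm_apply_apply]
  · rw [← Equiv.apply_eq_iff_eq_symm_apply]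
    refine hu _ ?_
    show p ≫ _ = _
    rw [← adj.homEquiv_naturality_left, show L.map p ≫ χ = φ from hχ]

include adj in
theorem isAdic_map {J : Ideal A} {X : PS C} (h : IsAdic J X) : IsAdic J (X ⋙ L) :=
  ⟨termKilled_map L h.1, fun n m hnm => isQuot_map L adj (h.2 n m hnm)⟩

section FG

set_option linter.unusedSectionVars false

omit [L.Linear A] in
theorem exists_quot_finset [PreservesFiniteColimits L] (s : Finset A) (X : C) :
    ∃ (Z : C) (π : X ⟶ Z), Epi π ∧ (∀ a ∈ s, a • π = 0) ∧
      ∀ (Y : D) (φ : L.obj X ⟶ Y), (∀ a ∈ s, L.map (a • 𝟙 X) ≫ φ = 0) → ∃ ψ, L.map π ≫ ψ = φ := by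
  classical
  induction s using Finset.induction with
  | empty => exact ⟨X, 𝟙 X, inferInstance, fun a ha => absurd ha (Finset.notMem_empty a),
      fun Y φ _ => ⟨φ, by rw [L.map_id, Category.id_comp]⟩⟩
  | @insert b s _ ih =>
    obtain ⟨Z, π, hπ, hk, hu⟩ := ih
    refine ⟨_, π ≫ cokernel.π (b • 𝟙 Z), epi_comp _ _, fun a ha => ?_, fun Y φ hφ => ?_⟩
    · rcases Finset.mem_insert.1 ha with rfl | ha
      · have h := cokernel.condition (a • 𝟙 Z)
        rw [Linear.smul_comp, Category.id_comp] at h
        rw [← Linear.comp_smul, h, comp_zero]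
      · rw [← Linear.smul_comp, hk a ha, zero_comp]
    · obtain ⟨ψ, rfl⟩ := hu Y φ fun a ha => hφ a (Finset.mem_insert_of_mem ha)
      have hb : L.map (b • 𝟙 Z) ≫ ψ = 0 := by
        haveI : Epi (L.map π) := inferInstance
        rw [← cancel_epi (L.map π), comp_zero, ← Category.assoc, ← L.map_comp, Linear.comp_smul, Category.comp_id]
        have := hφ b (Finset.mem_insert_self b s)
        rwa [← Category.assoc, ← L.map_comp, Linear.smul_comp, Category.id_comp] at this
      let hc := isColimitOfHasCokernelOfPreservesColimit L (b • 𝟙 Z)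
      obtain ⟨χ, hχ⟩ := CokernelCofork.IsColimit.desc' hc ψ hb
      refine ⟨χ, ?_⟩
      rw [L.map_comp, Category.assoc]
      exact congrArg (L.map π ≫ ·) hχ

/-- An exact linear functor preserves quotients modulo a finitely generated ideal. -/
theorem isQuot_map_of_fg [PreservesFiniteColimits L] {I : Ideal A} (hI : I.FG) {X Q : C} {p : X ⟶ Q}
    (h : IsQuot I p) : IsQuot I (L.map p) := by
  have : Epi p := ARLib.IsQuot.epi h
  obtain ⟨s, hs⟩ := hI
  obtain ⟨Z, π, hπ, hk, hu⟩ := exists_quot_finset L s X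
  obtain ⟨ψ₀, hψ₀, -⟩ := h.2 Z π fun a ha => by
    rw [← hs] at ha
    refine Submodule.span_induction (fun a ha => hk a ha) (zero_smul A π) (fun a b _ _ ha hb => ?_)
      (fun c a _ ha => ?_) ha
    · rw [add_smul, ha, hb, add_zero]
    · rw [smul_eq_mul, mul_smul, ha, smul_zero]
  refine ⟨killedBy_map L h.1, fun Y φ hφ => ?_⟩
  obtain ⟨χ, rfl⟩ := hu Y φ fun a ha => by
    rw [L.map_smul, L.map_id, Linear.smul_comp, Category.id_comp]
    exact hφ a (hs ▸ Submodule.subset_span ha)
  have e : L.map p ≫ L.map ψ₀ ≫ χ = L.map π ≫ χ := by rw [← Category.assoc, ← L.map_comp, hψ₀]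
  haveI : Epi (L.map p) := inferInstance
  exact ⟨L.map ψ₀ ≫ χ, e, fun χ' hχ' => (cancel_epi (L.map p)).1 (hχ'.trans e.symm)⟩

/-- An exact linear functor preserves adic systems for a finitely generated ideal. -/
theorem isAdic_map_of_fg [PreservesFiniteColimits L] {J : Ideal A} (hJ : ∀ k : ℕ, (J ^ k).FG) {X : PS C}
    (h : IsAdic J X) : IsAdic J (X ⋙ L) :=
  ⟨termKilled_map L h.1, fun n m hnm => isQuot_map_of_fg L (hJ (n + 1)) (h.2 n m hnm)⟩

end FG

/-- A left adjoint of a linear functor is linear. -/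
theorem linear_of_adjunction {L : C ⥤ D} [L.Additive] {R : D ⥤ C} [R.Additive] [R.Linear A] (adj : L ⊣ R) :
    L.Linear A where
  map_smul f a := by
    apply (adj.homEquiv _ _).injective
    rw [adj.homEquiv_unit, adj.homEquiv_unit, R.map_smul, Linear.comp_smul]
    erw [← adj.unit.naturality, ← adj.unit.naturality]
    exact Linear.smul_comp _ _ _ _ _ _

end Groth.Agent.EtModWLib
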