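import Groth.Agent.EtModWLib.Constr
import Groth.Agent.EtModWLib.MapSystems
import Mathlib.CategoryTheory.Sites.Limits

/-!
# Linearity of inverse images and stalks of sheaves of modules
-/

set_option autoImplicit false

universe u

open CategoryTheory CategoryTheory.Limits AlgebraicGeometry Opposite

namespace Groth.Agent.EtModWLib

set_option backward.isDefEq.respectTransparency.types false

variable {Λ : Type (u + 1)} [CommRing Λ]

instance push_linear {X Y : Scheme.{u}} (f : X ⟶ Y) : (EtModW.push Λ f).Linear Λ where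
  map_smul _ _ := rfl

instance pull_additive {X Y : Scheme.{u}} (f : X ⟶ Y) : (EtModW.pull Λ f).Additive :=
  (pullPushAdj Λ f).left_adjoint_additive

instance pull_linear {X Y : Scheme.{u}} (f : X ⟶ Y) : (EtModW.pull Λ f).Linear Λ :=
  linear_of_adjunction (pullPushAdj Λ f)

instance stalk_additive {X : Scheme.{u}} {Ω : Type u} [Field Ω] [IsSepClosed Ω]
    (ξ : Spec (CommRingCat.of Ω) ⟶ X) : (EtModW.stalk Λ ξ).Additive :=
  have := preservesBinaryBiproducts_of_preservesBinaryProducts (EtModW.stalk Λ ξ)
  Functor.additive_of_preservesBinaryBiproducts _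

instance stalk_linear {X : Scheme.{u}} {Ω : Type u} [Field Ω] [IsSepClosed Ω]
    (ξ : Spec (CommRingCat.of Ω) ⟶ X) : (EtModW.stalk Λ ξ).Linear Λ where
  map_smul {F G} f a := by
    ext x
    obtain ⟨V, v, s, rfl⟩ := (Scheme.pointSmallEtale ξ).toPresheafFiber_jointly_surjective x
    refine (FTConst.stalk_germ (a • f) v s).trans ?_
    refine Eq.trans ?_ (congrArg (fun t => a • t) (FTConst.stalk_germ f v s)).symm
    exact map_smul ((Scheme.pointSmallEtale ξ).toPresheafFiber V v G.obj).hom a (f.hom.app (op V) s)

end Groth.Agent.EtModWLib
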