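import Groth.Agent.EtModWLib.Linear
import Groth.Prelude.Def_EtModW
import Groth.Agent.EtLC12.ModPullExact
import Groth.Agent.EtFound.ExtRealize
import Groth.Agent.ProEtLib.EpsExt
import Mathlib.Algebra.Category.ModuleCat.FilteredColimits
import Mathlib.CategoryTheory.Sites.PreservesSheafification
import Mathlib.CategoryTheory.Abelian.ShortExact

/-!
# `ε⁻¹` on sheaves of modules and the underlying sheaves of abelian groups
-/

set_option autoImplicit false

universe u

open CategoryTheory CategoryTheory.Limits AlgebraicGeometry Opposite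

namespace Groth.Agent.EtModWLib

set_option backward.isDefEq.respectTransparency.types false

variable {Λ : Type (u + 1)} [CommRing Λ] {X : Scheme.{u}}

section Lift

variable {C : Type (u + 1)} [Category.{u} C] {J : GrothendieckTopology C}

/-- An additive map commuting with the scalars is linear. -/
theorem exists_lift_of_comm {A B : Sheaf J (ModuleCat.{u + 1} Λ)}
    (ψ : (sheafCompose J (forget₂ (ModuleCat.{u + 1} Λ) AddCommGrpCat.{u + 1})).obj A ⟶
      (sheafCompose J (forget₂ (ModuleCat.{u + 1} Λ) AddCommGrpCat.{u + 1})).obj B)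
    (h : ∀ r : Λ, (sheafCompose J (forget₂ (ModuleCat.{u + 1} Λ) AddCommGrpCat.{u + 1})).map (r • 𝟙 A) ≫ ψ =
      ψ ≫ (sheafCompose J (forget₂ (ModuleCat.{u + 1} Λ) AddCommGrpCat.{u + 1})).map (r • 𝟙 B)) :
    ∃ φ : A ⟶ B, (sheafCompose J (forget₂ (ModuleCat.{u + 1} Λ) AddCommGrpCat.{u + 1})).map φ = ψ := by
  let l : ∀ V, A.obj.obj V →ₗ[Λ] B.obj.obj V := fun V =>
    { toFun := fun a => (ψ.hom.app V).hom a
      map_add' := fun a b => map_add (ψ.hom.app V).hom a b
      map_smul' := fun r a => congrArg (fun q => q.hom.app V a) (h r) }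
  exact ⟨⟨{ app := fun V => ModuleCat.ofHom (l V)
            naturality := fun V W g => ModuleCat.hom_ext (LinearMap.ext fun a =>
              ConcreteCategory.congr_hom (ψ.hom.naturality g) a) }⟩, rfl⟩

end Lift

/-- The underlying étale sheaf of abelian groups. -/
noncomputable abbrev abEt (Λ : Type (u + 1)) [CommRing Λ] (X : Scheme.{u}) : EtModW.Mod Λ X ⥤ EtCoh.Ab X :=
  sheafCompose X.smallEtaleTopology (forget₂ (ModuleCat.{u + 1} Λ) AddCommGrpCat.{u + 1})

/-- The underlying pro-étale sheaf of abelian groups. -/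
noncomputable abbrev abPro (Λ : Type (u + 1)) [CommRing Λ] (X : Scheme.{u}) : EtModW.ModP Λ X ⥤ ProEtS.AbP X :=
  sheafCompose (Scheme.ProEt.topology X) (forget₂ (ModuleCat.{u + 1} Λ) AddCommGrpCat.{u + 1})

/-- Zero sheaves of modules are finite type locally constant. -/
theorem isFTLocConst_of_isZero {Y : Scheme.{u}} {F : EtModW.Mod Λ Y} (hF : IsZero F) : EtModW.IsFTLocConst Λ F := by
  refine FTConst.isFTLocConst_of_charts _ fun y =>
    ⟨EtCoh.top Y, y, rfl, ⟨{ M := ModuleCat.of Λ PUnit.{u + 2}, φ := 0, const := fun Ω _ _ ξ z => ?_ }⟩⟩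
  haveI := ModuleCat.subsingleton_of_isZero ((EtModW.stalk Λ ξ).map_isZero hF)
  exact ⟨fun a b _ => rfl, fun c => ⟨PUnit.unit, Subsingleton.elim (α := (EtModW.stalk Λ ξ).obj F) _ _⟩⟩

/-- Zero sheaves of modules are constructible. -/
theorem isConstructible_zero {F : EtModW.Mod Λ X} (hF : IsZero F) : EtModW.IsConstructible Λ F := fun U _ =>
  adaptedStrata_of_cover U.2.isLocallyClosed (fun _ : Unit => (Set.univ : Set X))
    (fun _ => ⟨X, 𝟙 X, inferInstance, Set.range_id, isFTLocConst_of_isZero ((EtModW.pull Λ (𝟙 X)).map_isZero hF)⟩)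
    (fun _ => by rw [Set.preimage_univ]; exact Topology.IsConstructible.univ)
    (fun x _ => Set.mem_iUnion.2 ⟨(), trivial⟩)

variable [ProEtS.EpsCont X]

variable (Λ X) in
/-- The adjunction `ε⁻¹ ⊣ ε_*` of sheaves of modules. -/
noncomputable abbrev epsAdjMod : EtModW.epsPullMod Λ X ⊣
    (ProEtS.eps X).sheafPushforwardContinuous (ModuleCat.{u + 1} Λ) X.smallEtaleTopology (Scheme.ProEt.topology X) :=
  (ProEtS.eps X).sheafAdjunctionContinuous _ _ _

instance pushEps_additive : Functor.Additive ((ProEtS.eps X).sheafPushforwardContinuous (ModuleCat.{u + 1} Λ)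
    X.smallEtaleTopology (Scheme.ProEt.topology X)) where
  map_add := rfl

instance pushEps_linear : Functor.Linear Λ ((ProEtS.eps X).sheafPushforwardContinuous (ModuleCat.{u + 1} Λ)
    X.smallEtaleTopology (Scheme.ProEt.topology X)) where
  map_smul _ _ := rfl

instance epsPullMod_additive : (EtModW.epsPullMod Λ X).Additive :=
  (epsAdjMod Λ X).left_adjoint_additive

instance epsPullMod_linear : (EtModW.epsPullMod Λ X).Linear Λ :=
  linear_of_adjunction (epsAdjMod Λ X)

instance preservesSheafification_ab :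
    (Scheme.ProEt.topology X).PreservesSheafification (forget₂ (ModuleCat.{u + 1} Λ) AddCommGrpCat.{u + 1}) where
  le {P Q} f hf := by
    obtain ⟨h1, h2⟩ := ((Scheme.ProEt.topology X).W_iff_isLocallyBijective f).1 hf
    refine ((Scheme.ProEt.topology X).W_iff_isLocallyBijective _).2 ⟨⟨fun x y h => ?_⟩, ⟨fun t => ?_⟩⟩
    · exact (Scheme.ProEt.topology X).superset_covering (fun V g hg => hg)
        (Presheaf.equalizerSieve_mem (Scheme.ProEt.topology X) f x y h)
    · exact (Scheme.ProEt.topology X).superset_covering (fun V g hg => hg)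
        (Presheaf.imageSieve_mem (Scheme.ProEt.topology X) f t)

variable (Λ X) in
/-- Sheafification commutes with the passage to the underlying abelian groups. -/
noncomputable def sheafifyAbIso : presheafToSheaf (Scheme.ProEt.topology X) (ModuleCat.{u + 1} Λ) ⋙ abPro Λ X ≅
    (Functor.whiskeringRight _ _ _).obj (forget₂ (ModuleCat.{u + 1} Λ) AddCommGrpCat.{u + 1}) ⋙
      presheafToSheaf (Scheme.ProEt.topology X) AddCommGrpCat.{u + 1} :=
  (sheafComposeNatIso (Scheme.ProEt.topology X) (forget₂ (ModuleCat.{u + 1} Λ) AddCommGrpCat.{u + 1})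
    (sheafificationAdjunction _ _) (sheafificationAdjunction _ _)).symm

variable (Λ X) in
/-- Extension of presheaves commutes with the passage to the underlying abelian groups. -/
noncomputable def lanAbIso : ((ProEtS.eps X).op.lan : (X.Etaleᵒᵖ ⥤ ModuleCat.{u + 1} Λ) ⥤ _) ⋙
      (Functor.whiskeringRight _ _ _).obj (forget₂ (ModuleCat.{u + 1} Λ) AddCommGrpCat.{u + 1}) ≅
    (Functor.whiskeringRight _ _ _).obj (forget₂ (ModuleCat.{u + 1} Λ) AddCommGrpCat.{u + 1}) ⋙
      (ProEtS.eps X).op.lan :=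
  haveI := ProEtLib.repFlat_eps (X := X)
  haveI : PreservesFilteredColimitsOfSize.{u, u + 1} (forget₂ (ModuleCat.{u + 1} Λ) AddCommGrpCat.{u + 1}) :=
    preservesFilteredColimitsOfSize_of_univLE.{u + 1, u + 1, u, u + 1} _
  haveI hK : ∀ K, PreservesColimitsOfShape (CostructuredArrow (ProEtS.eps X).op K)
      (forget₂ (ModuleCat.{u + 1} Λ) AddCommGrpCat.{u + 1}) := fun K => by
    haveI : IsFiltered (CostructuredArrow (ProEtS.eps X).op K) :=
      IsFiltered.of_equivalence (structuredArrowOpEquivalence (ProEtS.eps X) (unop K))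
    exact PreservesFilteredColimitsOfSize.preserves_filtered_colimits _
  haveI : ∀ F : X.Etaleᵒᵖ ⥤ ModuleCat.{u + 1} Λ,
      (forget₂ (ModuleCat.{u + 1} Λ) AddCommGrpCat.{u + 1}).PreservesPointwiseLeftKanExtension F (ProEtS.eps X).op :=
    fun F K => inferInstance
  (forget₂ (ModuleCat.{u + 1} Λ) AddCommGrpCat.{u + 1}).lanCompIsoOfPreserves (ProEtS.eps X).op

variable (Λ X) in
/-- `ε⁻¹` commutes with the passage to the underlying abelian groups. -/
noncomputable def abEpsIso : EtModW.epsPullMod Λ X ⋙ abPro Λ X ≅ abEt Λ X ⋙ ProEtS.epsPull X :=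
  Functor.isoWhiskerRight (Functor.sheafPullbackConstruction.sheafPullbackIso (ProEtS.eps X)
      (ModuleCat.{u + 1} Λ) X.smallEtaleTopology (Scheme.ProEt.topology X)) (abPro Λ X) ≪≫
  (Functor.isoWhiskerLeft (sheafToPresheaf _ _ ⋙ (ProEtS.eps X).op.lan) (sheafifyAbIso Λ X) :
    Functor.sheafPullbackConstruction.sheafPullback (ProEtS.eps X) (ModuleCat.{u + 1} Λ) X.smallEtaleTopology
      (Scheme.ProEt.topology X) ⋙ abPro Λ X ≅ _) ≪≫
  (Functor.isoWhiskerLeft (sheafToPresheaf _ _) (Functor.isoWhiskerRight (lanAbIso Λ X)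
    (presheafToSheaf (Scheme.ProEt.topology X) AddCommGrpCat.{u + 1})) :
    _ ≅ abEt Λ X ⋙ Functor.sheafPullbackConstruction.sheafPullback (ProEtS.eps X) AddCommGrpCat.{u + 1}
      X.smallEtaleTopology (Scheme.ProEt.topology X)) ≪≫
  Functor.isoWhiskerLeft (abEt Λ X) (Functor.sheafPullbackConstruction.sheafPullbackIso (ProEtS.eps X)
    AddCommGrpCat.{u + 1} X.smallEtaleTopology (Scheme.ProEt.topology X)).symm

theorem fullyFaithful_epsPull : (ProEtS.epsPull X).Full ∧ (ProEtS.epsPull X).Faithful := by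
  haveI : IsIso (ProEtS.epsAdj X).unit :=
    haveI := ProEtLib.isIso_unit_eps (X := X)
    NatIso.isIso_of_isIso_app _
  exact ⟨(ProEtS.epsAdj X).fullyFaithfulLOfIsIsoUnit.full, (ProEtS.epsAdj X).fullyFaithfulLOfIsIsoUnit.faithful⟩

instance full_epsPullMod : (EtModW.epsPullMod Λ X).Full where
  map_surjective {E E'} g := by
    haveI := (fullyFaithful_epsPull (X := X)).1
    haveI := (fullyFaithful_epsPull (X := X)).2
    let c := abEpsIso Λ X
    obtain ⟨h, hh⟩ := (ProEtS.epsPull X).map_surjective (c.inv.app E ≫ (abPro Λ X).map g ≫ c.hom.app E')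
    obtain ⟨φ, hφ⟩ := exists_lift_of_comm (J := X.smallEtaleTopology) h fun r => by
      refine (ProEtS.epsPull X).map_injective ?_
      have e : ∀ A : EtModW.Mod Λ X, (abEt Λ X ⋙ ProEtS.epsPull X).map (r • 𝟙 A) =
          c.inv.app A ≫ (abPro Λ X).map (r • 𝟙 ((EtModW.epsPullMod Λ X).obj A)) ≫ c.hom.app A := fun A => by
        have h1 : (EtModW.epsPullMod Λ X).map (r • 𝟙 A) = r • 𝟙 ((EtModW.epsPullMod Λ X).obj A) :=
          (Functor.map_smul _ r (𝟙 A)).trans (congrArg (fun q => r • q) ((EtModW.epsPullMod Λ X).map_id A))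
        rw [← h1]
        exact (NatIso.naturality_1 c (r • 𝟙 A)).symm
      rw [Functor.map_comp, Functor.map_comp, hh]
      have e1 := e E
      have e2 := e E'
      dsimp only [Functor.comp_map] at e1 e2
      rw [e1, e2]
      simp only [Category.assoc, Iso.hom_inv_id_app_assoc]
      rw [← Functor.map_comp_assoc, ← Functor.map_comp_assoc]
      have h3 : (r • 𝟙 ((EtModW.epsPullMod Λ X).obj E)) ≫ g = g ≫ (r • 𝟙 ((EtModW.epsPullMod Λ X).obj E')) := by
        rw [Linear.smul_comp, Linear.comp_smul, Category.id_comp, Category.comp_id]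
      rw [h3]
    refine ⟨φ, (abPro Λ X).map_injective ?_⟩
    have h4 := c.hom.naturality φ
    refine (cancel_mono (c.hom.app E')).1 (h4.trans ?_)
    change c.hom.app E ≫ (ProEtS.epsPull X).map ((abEt Λ X).map φ) = _
    rw [hφ, hh, Iso.hom_inv_id_app_assoc]

instance faithful_epsPullMod : (EtModW.epsPullMod Λ X).Faithful where
  map_injective {E E'} a b h := by
    haveI := (fullyFaithful_epsPull (X := X)).2
    refine (abEt Λ X).map_injective ((ProEtS.epsPull X).map_injective ?_)
    have ha := NatIso.naturality_1 (abEpsIso Λ X) a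
    have hb := NatIso.naturality_1 (abEpsIso Λ X) b
    exact ha.symm.trans ((congrArg (fun q => (abEpsIso Λ X).inv.app E ≫ (abPro Λ X).map q ≫
      (abEpsIso Λ X).hom.app E') h).trans hb)

instance preservesFiniteLimits_epsPullMod : PreservesFiniteLimits (EtModW.epsPullMod Λ X) := by
  haveI := ProEtLib.repFlat_eps (X := X)
  exact EtLC12.ModPullExact.sheafPullback_preservesFiniteLimits (Λ := Λ) (ProEtS.eps X) _ _

instance preservesFiniteColimits_epsPullMod : PreservesFiniteColimits (EtModW.epsPullMod Λ X) :=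
  have := (epsAdjMod Λ X).leftAdjoint_preservesColimits
  inferInstance

/-- A sheaf of modules comes from the étale site as soon as its underlying abelian sheaf does. -/
theorem essImage_epsPullMod_of_ab {A : EtModW.ModP Λ X}
    (h : (ProEtS.epsPull X).essImage ((abPro Λ X).obj A)) : (EtModW.epsPullMod Λ X).essImage A := by
  let R := (ProEtS.eps X).sheafPushforwardContinuous (ModuleCat.{u + 1} Λ) X.smallEtaleTopology
    (Scheme.ProEt.topology X)
  haveI : IsIso (ProEtS.epsAdj X).unit :=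
    haveI := ProEtLib.isIso_unit_eps (X := X)
    NatIso.isIso_of_isIso_app _
  haveI := (fullyFaithful_epsPull (X := X)).1
  haveI := (fullyFaithful_epsPull (X := X)).2
  let A' : ProEtS.AbP X := (abPro Λ X).obj A
  haveI hco : IsIso ((ProEtS.epsAdj X).counit.app A') :=
    (ProEtS.epsAdj X).isIso_counit_app_iff_mem_essImage.2 h
  let c := abEpsIso Λ X
  let c₀ : (abPro Λ X).obj ((EtModW.epsPullMod Λ X).obj (R.obj A)) ≅
      (ProEtS.epsPush X ⋙ ProEtS.epsPull X).obj A' := c.app (R.obj A)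
  let ψ : (abPro Λ X).obj ((EtModW.epsPullMod Λ X).obj (R.obj A)) ≅ (abPro Λ X).obj A :=
    c₀ ≪≫ @asIso _ _ _ _ ((ProEtS.epsAdj X).counit.app A') hco
  obtain ⟨φ, hφ⟩ := exists_lift_of_comm (J := Scheme.ProEt.topology X) ψ.hom fun r => by
    have h1 : (EtModW.epsPullMod Λ X).map (R.map (r • 𝟙 A)) = r • 𝟙 ((EtModW.epsPullMod Λ X).obj (R.obj A)) := by
      rw [Functor.map_smul, Functor.map_smul, CategoryTheory.Functor.map_id, CategoryTheory.Functor.map_id]
    have h2 := c.hom.naturality (R.map (r • 𝟙 A))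
    have h3 := (ProEtS.epsAdj X).counit.naturality ((abPro Λ X).map (r • 𝟙 A))
    have h2' : (abPro Λ X).map ((EtModW.epsPullMod Λ X).map (R.map (r • 𝟙 A))) ≫ c₀.hom =
        c₀.hom ≫ (ProEtS.epsPush X ⋙ ProEtS.epsPull X).map ((abPro Λ X).map (r • 𝟙 A)) := h2
    refine (congrArg (fun q => (abPro Λ X).map q ≫ ψ.hom) h1.symm).trans ?_
    refine (Category.assoc _ _ _).symm.trans ((congrArg (· ≫ _) h2').trans ?_)
    refine (Category.assoc _ _ _).trans ?_
    refine Eq.trans ?_ (Category.assoc _ _ _).symm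
    exact congrArg (c₀.hom ≫ ·) h3
  haveI : IsIso ((abPro Λ X).map φ) := hφ ▸ ψ.isIso_hom
  haveI : IsIso φ := isIso_of_reflects_iso φ (abPro Λ X)
  exact ⟨R.obj A, ⟨asIso φ⟩⟩

omit [ProEtS.EpsCont X] in
theorem preservesFiniteLimits_abPro : PreservesFiniteLimits (abPro Λ X) := by
  haveI : PreservesLimitsOfSize.{0, 0} (forget₂ (ModuleCat.{u + 1} Λ) AddCommGrpCat.{u + 1}) := inferInstance
  refine ⟨fun J _ _ => ?_⟩
  haveI : PreservesLimitsOfShape J (abPro Λ X ⋙ sheafToPresheaf (Scheme.ProEt.topology X) AddCommGrpCat.{u + 1}) :=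
    preservesLimitsOfShape_of_natIso (show sheafToPresheaf (Scheme.ProEt.topology X) (ModuleCat.{u + 1} Λ) ⋙
      (Functor.whiskeringRight _ _ _).obj (forget₂ (ModuleCat.{u + 1} Λ) AddCommGrpCat.{u + 1}) ≅
      abPro Λ X ⋙ sheafToPresheaf (Scheme.ProEt.topology X) AddCommGrpCat.{u + 1} from Iso.refl _)
  exact preservesLimitsOfShape_of_reflects_of_preserves (abPro Λ X)
    (sheafToPresheaf (Scheme.ProEt.topology X) AddCommGrpCat.{u + 1})

omit [ProEtS.EpsCont X] in
theorem shortExact_abPro {T : ShortComplex (EtModW.ModP Λ X)} (hT : T.ShortExact) :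
    haveI : (abPro Λ X).Additive := ⟨rfl⟩
    (T.map (abPro Λ X)).ShortExact := by
  haveI : (abPro Λ X).Additive := ⟨rfl⟩
  haveI := preservesFiniteLimits_abPro (Λ := Λ) (X := X)
  haveI := hT.mono_f
  haveI := hT.epi_g
  haveI hl : Sheaf.IsLocallySurjective T.g := (Sheaf.isLocallySurjective_iff_epi' _ T.g).2 inferInstance
  have hl' : Sheaf.IsLocallySurjective ((abPro Λ X).map T.g) :=
    ⟨fun t => (Scheme.ProEt.topology X).superset_covering (fun V g hg => hg)
      (Presheaf.imageSieve_mem (Scheme.ProEt.topology X) T.g.hom t)⟩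
  exact { exact := ShortComplex.exact_of_f_is_kernel _ (KernelFork.mapIsLimit _ hT.fIsKernel (abPro Λ X))
          mono_f := inferInstanceAs (Mono ((abPro Λ X).map T.f))
          epi_g := (Sheaf.isLocallySurjective_iff_epi' _ _).1 hl' }

/-- Extensions of sheaves from the étale site come from the étale site. -/
theorem essImage_epsPullMod_extension {T : ShortComplex (EtModW.ModP Λ X)} (hT : T.ShortExact)
    (h1 : (EtModW.epsPullMod Λ X).essImage T.X₁) (h3 : (EtModW.epsPullMod Λ X).essImage T.X₃) :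
    (EtModW.epsPullMod Λ X).essImage T.X₂ := by
  haveI := ProEtLib.preservesFiniteLimits_epsPull (X := X)
  haveI := (fullyFaithful_epsPull (X := X)).1
  haveI := (fullyFaithful_epsPull (X := X)).2
  haveI := EtFound.isWeakSerre_image (ProEtS.epsPull X)
    (fun Q F => (ProEtLib.mapExt_epsPull_bijective Q F 1).2) (⊤ : ObjectProperty (EtCoh.Ab X))
  haveI : (abPro Λ X).Additive := ⟨rfl⟩
  have hab : ∀ {A : EtModW.ModP Λ X}, (EtModW.epsPullMod Λ X).essImage A →
      ∃ G : EtCoh.Ab X, (⊤ : ObjectProperty (EtCoh.Ab X)) G ∧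
        Nonempty ((ProEtS.epsPull X).obj G ≅ (abPro Λ X).obj A) := fun {A} ⟨E, ⟨e⟩⟩ =>
    ⟨(abEt Λ X).obj E, trivial, ⟨((abEpsIso Λ X).app E).symm ≪≫ (abPro Λ X).mapIso e⟩⟩
  obtain ⟨G, -, ⟨e⟩⟩ := ObjectProperty.IsClosedUnderExtensions.prop_X₂_of_shortExact
    (P := fun A : ProEtS.AbP X => ∃ G : EtCoh.Ab X, (⊤ : ObjectProperty (EtCoh.Ab X)) G ∧
      Nonempty ((ProEtS.epsPull X).obj G ≅ A)) (shortExact_abPro hT) (hab h1) (hab h3)
  exact essImage_epsPullMod_of_ab ⟨G, ⟨e⟩⟩

end Groth.Agent.EtModWLib
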