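import Groth.Agent.EtModWLib.Linear
import Groth.Agent.EtFound.StalkSet
import Groth.Agent.EtFound.AbRecollement

/-!
# Stalks of constructible sheaves of modules are finitely generated
-/

set_option autoImplicit false

universe u

open CategoryTheory CategoryTheory.Limits AlgebraicGeometry Opposite Topology

namespace Groth.Agent.EtModWLib

set_option backward.isDefEq.respectTransparency.types false

variable {Λ : Type (u + 1)} [CommRing Λ] {X : Scheme.{u}}

/-- stalks only depend on the image of the point -/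
theorem nonempty_stalk_iso (F : EtModW.Mod Λ X) {k k' : Type u} [Field k] [IsSepClosed k] [Field k'] [IsSepClosed k']
    (ξ : Spec (CommRingCat.of k) ⟶ X) (ξ' : Spec (CommRingCat.of k') ⟶ X)
    (h : ξ.base (default : Spec (CommRingCat.of k)) = ξ'.base (default : Spec (CommRingCat.of k'))) :
    Nonempty ((EtModW.stalk Λ ξ).obj F ≅ (EtModW.stalk Λ ξ').obj F) := by
  obtain ⟨Ω, _, _, z, e, he⟩ := EtFound.exists_lift_extension ξ ξ' ⟨default, h⟩
  exact ⟨(EtFound.stalkExtIso (ModuleCat.{u + 1} Λ) ξ z).app F ≪≫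
    eqToIso (congrArg (fun q => (EtModW.stalk Λ q).obj F) he.symm) ≪≫
      ((EtFound.stalkExtIso (ModuleCat.{u + 1} Λ) ξ' e).app F).symm⟩

theorem finite_stalk_of_isConstructible {F : EtModW.Mod Λ X} (hF : EtModW.IsConstructible Λ F) {Ω : Type u}
    [Field Ω] [IsSepClosed Ω] (ξ : Spec (CommRingCat.of Ω) ⟶ X) :
    Module.Finite Λ ((EtModW.stalk Λ ξ).obj F) := by
  obtain ⟨U, hU, hxU, -⟩ := exists_isAffineOpen_mem_and_subset (U := (⊤ : X.Opens))
    (x := ξ.base (default : Spec (CommRingCat.of Ω))) trivial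
  obtain ⟨n, T, g, hg, -, -, hu, hT⟩ := hF U hU
  obtain ⟨i, t, ht⟩ := Set.mem_iUnion.1 (hu.ge hxU)
  obtain ⟨V, p, hp, ⟨c⟩⟩ := FTConst.exists_chart (hT i) t
  obtain ⟨k, _, _, ζ, z, hz⟩ := EtFound.exists_algClosed_point V p
  let e₁ := LinearEquiv.ofBijective (c.φ ≫ (Scheme.pointSmallEtale ζ).toPresheafFiber V z _).hom (c.const k ζ z)
  obtain ⟨e₂⟩ := nonempty_stalk_iso F (ζ ≫ g i) ξ ((Scheme.Hom.comp_apply _ _ _).trans
    ((congrArg (g i).base ((EtFound.base_of_point z).symm.trans ((congrArg _ hz).trans hp))).trans ht))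
  exact Module.Finite.equiv (e₁.trans ((EtFound.sheafFiberPullIso (g i) ζ).app F ≪≫ e₂).toLinearEquiv)

end Groth.Agent.EtModWLib
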